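import Cfsg.Agent.Helper61.Sr.P2

/-!
# Helper33: piece (BAD2_of) of helper61's S3572 farm (`n = 2 ^ a`): no nonempty `S`-set avoiding
`1` has a rational `2`-periodic rotation part.
-/

set_option autoImplicit false
set_option linter.unusedSectionVars false

namespace Cfsg.Agent.Helper33.Sr

open Finset DihedralGroup Cfsg.Agent.Helper61.Sr Cfsg.Agent.Helper61.Dih

variable {n : ℕ} [NeZero n] (S : SRing (DihedralGroup n))

/-- a nonzero `2`-torsion element of `ZMod n`, `n` even -/
theorem BAD2_exists_torsion (hpn : 2 ∣ n) : ∃ u : ZMod n, 2 • u = 0 ∧ u ≠ 0 := by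
  have : Fact (Nat.Prime 2) := ⟨Nat.prime_two⟩
  have hcard := card_torsion (e := n) 2 hpn
  have h1 : 1 < (univ.filter (fun u : ZMod n => 2 • u = 0)).card := by
    rw [hcard]; norm_num
  obtain ⟨u, hu, hu0⟩ := Finset.exists_mem_ne h1 (0 : ZMod n)
  exact ⟨u, (Finset.mem_filter.mp hu).2, hu0⟩

/-- the even residues modulo an even `n` -/
def BAD2_K (hpn : 2 ∣ n) : AddSubgroup (ZMod n) :=
  (ZMod.castHom hpn (ZMod 2)).toAddMonoidHom.ker

theorem BAD2_mem_K (hpn : 2 ∣ n) (x : ZMod n) :
    x ∈ BAD2_K hpn ↔ ZMod.castHom hpn (ZMod 2) x = 0 := by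
  unfold BAD2_K
  rw [AddMonoidHom.mem_ker]
  rfl

theorem BAD2_K_ne_top (hpn : 2 ∣ n) : BAD2_K hpn ≠ ⊤ := by
  intro h
  have h1 : (1 : ZMod n) ∈ BAD2_K hpn := by rw [h]; exact AddSubgroup.mem_top _
  rw [BAD2_mem_K, map_one] at h1
  exact one_ne_zero h1

/-- in `ZMod (2 ^ a)` the non-units are even -/
theorem BAD2_mem_K_of_not_isUnit (a : ℕ) (hna : n = 2 ^ a) (hpn : 2 ∣ n) (x : ZMod n)
    (hx : ¬ IsUnit x) : x ∈ BAD2_K hpn := by
  rw [BAD2_mem_K]
  by_contra h0
  apply hx
  have hval : ZMod.castHom hpn (ZMod 2) x = ((x.val : ℕ) : ZMod 2) := by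
    rw [ZMod.castHom_apply, ZMod.natCast_val]
  rw [hval] at h0
  have hodd : Odd x.val := by
    rcases Nat.even_or_odd x.val with he | ho
    · exact absurd ((ZMod.natCast_eq_zero_iff_even).mpr he) h0
    · exact ho
  have hcop : Nat.Coprime x.val n := by
    have h2 : Nat.Coprime x.val (2 ^ a) :=
      Nat.Coprime.pow_right a hodd.coprime_two_right
    exact hna ▸ h2
  have := (ZMod.isUnit_iff_coprime x.val n).mpr hcop
  rwa [ZMod.natCast_zmod_val] at this

/-- (BAD2) -/
theorem BAD2_of (a : ℕ) (hna : n = 2 ^ a) (ha : 2 ≤ a) (hS : S.IsPrim)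
    (hNP : ∀ K : AddSubgroup (ZMod n), K ≠ ⊤ → ∀ T : Finset (DihedralGroup n), S.IsSet T →
      T.Nonempty → (1 : DihedralGroup n) ∉ T → (∀ i ∈ rotPart T, i ∈ K) → False)
    (R : Finset (DihedralGroup n)) (hR : S.IsSet R) (hne : R.Nonempty)
    (h1 : (1 : DihedralGroup n) ∉ R) (hrat : Rational (rotPart R)) (hper : Per 2 (rotPart R)) :
    False := by
  have hn : 3 ≤ n := by
    rw [hna]
    calc 3 ≤ 2 ^ 2 := by norm_num
      _ ≤ 2 ^ a := Nat.pow_le_pow_right (by norm_num) ha
  have hpn : 2 ∣ n := by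
    rw [hna]
    exact dvd_pow_self 2 (by omega)
  have : Fact (Nat.Prime 2) := ⟨Nat.prime_two⟩
  obtain ⟨lam, hds⟩ := C2 S hn hS 2 hpn R hR hper
  have hinv := isSet_inv_mem S hS hR
  have hK := BAD2_K_ne_top (n := n) hpn
  rcases rational_odd a hna (rotPart R) hrat with hno | hall
  · -- no unit in the rotation part
    refine hNP (BAD2_K hpn) hK R hR hne h1 ?_
    intro i hi
    exact BAD2_mem_K_of_not_isUnit a hna hpn i (fun hu => hno i hu hi)
  · -- all units in the rotation part: pass to the complement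
    obtain ⟨lam', hds'⟩ := ds_compl R hinv lam hds
    have hinv' : ∀ d ∈ (univ \ R : Finset (DihedralGroup n)), d⁻¹ ∈ (univ \ R) := by
      intro d hd
      rw [Finset.mem_sdiff] at hd ⊢
      refine ⟨Finset.mem_univ _, fun hc => hd.2 ?_⟩
      have := hinv _ hc
      rwa [inv_inv] at this
    have h0A : (0 : ZMod n) ∉ rotPart R := by
      rw [mem_rotPart, ← one_def]; exact h1
    obtain ⟨u, hu, hu0⟩ := BAD2_exists_torsion (n := n) hpn
    have huA : u ∉ rotPart R := by
      intro huA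
      apply h0A
      rw [hper 0 u hu, zero_add]
      exact huA
    have hk : 2 ≤ (univ \ R : Finset (DihedralGroup n)).card := by
      have hsub : ({1, r u} : Finset (DihedralGroup n)) ⊆ univ \ R := by
        intro d hd
        rw [Finset.mem_insert, Finset.mem_singleton] at hd
        rw [Finset.mem_sdiff]
        refine ⟨Finset.mem_univ _, ?_⟩
        rcases hd with rfl | rfl
        · exact h1
        · exact fun hc => huA (mem_rotPart.mpr hc)
      have hne1 : (1 : DihedralGroup n) ≠ r u := by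
        rw [one_def]
        intro h0
        injection h0 with h0
        exact hu0 h0.symm
      calc 2 = ({1, r u} : Finset (DihedralGroup n)).card := (Finset.card_pair hne1).symm
        _ ≤ _ := Finset.card_le_card hsub
    refine Qfalse hn (univ \ R) hinv' lam' hds' hk (BAD2_K hpn) hK ?_
    intro i hi
    apply BAD2_mem_K_of_not_isUnit a hna hpn i
    intro hiu
    rw [mem_rotPart, Finset.mem_sdiff] at hi
    exact hi.2 (mem_rotPart.mp (hall i hiu))

end Cfsg.Agent.Helper33.Sr
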