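import Cfsg.Agent.Helper61.Sr.P1

/-!
# Helper33: piece (C3_of) of helper61's S3572 farm: no nonempty `S`-set avoiding `1` which is a
difference set of size divisible by `p` has a `p`-periodic rotation part (`p` odd).
-/

set_option autoImplicit false

namespace Cfsg.Agent.Helper33.Sr

open Finset DihedralGroup Cfsg.Agent.Helper61.Sr Cfsg.Agent.Helper61.Dih

variable {n : ℕ} [NeZero n] (S : SRing (DihedralGroup n))

/-- a nonzero `p`-torsion element of `ZMod n` -/
theorem C3_exists_torsion (p : ℕ) [Fact p.Prime] (hpn : p ∣ n) :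
    ∃ u : ZMod n, p • u = 0 ∧ u ≠ 0 := by
  have hp : p.Prime := Fact.out
  have hcard := card_torsion (e := n) p hpn
  have h1 : 1 < (univ.filter (fun u : ZMod n => p • u = 0)).card := by
    rw [hcard]; exact hp.one_lt
  obtain ⟨u, hu, hu0⟩ := Finset.exists_mem_ne h1 (0 : ZMod n)
  exact ⟨u, (Finset.mem_filter.mp hu).2, hu0⟩

/-- (C3) no nonempty `S`-set avoiding `1` has a `p`-periodic rotation part (`p` odd) -/
theorem C3_of (hn : 3 ≤ n) (hS : S.IsPrim) (p : ℕ) [Fact p.Prime] (hp2 : p ≠ 2) (hpn : p ∣ n)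
    (T : Finset (DihedralGroup n)) (hT : S.IsSet T) (hne : T.Nonempty)
    (h1 : (1 : DihedralGroup n) ∉ T) (hA : Per p (rotPart T))
    (hds : ∃ lam : ℕ, IsDs T lam) (hcard : p ∣ T.card) : False := by
  obtain ⟨lam, h⟩ := hds
  have hinv := isSet_inv_mem S hS hT
  have D := ds_dihData T hinv h1 lam h
  have hAB := card_rot_add_ref T
  have h0A : (0 : ZMod n) ∉ rotPart T := by
    rw [mem_rotPart, ← one_def]; exact h1
  -- torsion elements are outside `A`
  have hdisj : ∀ u : ZMod n, p • u = 0 → u ∉ rotPart T := by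
    intro u hu huA
    apply h0A
    rw [hA 0 u hu, zero_add]
    exact huA
  -- `0 < lam`
  obtain ⟨j, hj⟩ := F1 S hS T hT hne h1
  obtain ⟨i, hi⟩ := F1' S (by omega) hS T hT hne h1
  have hlam : 0 < lam := by
    have h2 := ds_ref T hinv lam h (j - i)
    have hpos : 0 < ((rotPart T).filter (fun i' => j - i + i' ∈ refPart T)).card := by
      apply Finset.card_pos.mpr
      refine ⟨i, Finset.mem_filter.mpr ⟨mem_rotPart.mpr hi, ?_⟩⟩
      rw [sub_add_cancel]
      exact mem_refPart.mpr hj
    omega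
  -- `|A| ≤ n - 2`
  obtain ⟨u, hu, hu0⟩ := C3_exists_torsion (n := n) p hpn
  have hAle : (rotPart T).card + 2 ≤ n := by
    have hsub : rotPart T ⊆ (univ.erase (0 : ZMod n)).erase u := by
      intro x hx
      rw [Finset.mem_erase, Finset.mem_erase]
      refine ⟨?_, ?_, Finset.mem_univ _⟩
      · rintro rfl; exact hdisj _ hu hx
      · rintro rfl; exact h0A hx
    have hc := Finset.card_le_card hsub
    rw [Finset.card_erase_of_mem (Finset.mem_erase.mpr ⟨hu0, Finset.mem_univ _⟩),
      Finset.card_erase_of_mem (Finset.mem_univ _), Finset.card_univ, ZMod.card] at hc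
    omega
  have hBle : (refPart T).card ≤ n := by
    have := Finset.card_le_univ (refPart T)
    rwa [ZMod.card] at this
  have hk : T.card + 2 ≤ 2 * n := by omega
  -- `hmu'`
  have hcount := ds_count T hinv lam h
  have hmu' : 0 < 2 * (n : ℤ) - 2 * (T.card : ℤ) + (lam : ℤ) := by
    have hcz : ((T.card : ℤ)) ^ 2 = T.card + lam * (2 * n - 1) := by
      have : ((T.card ^ 2 : ℕ) : ℤ) = ((T.card + lam * (2 * n - 1) : ℕ) : ℤ) := by rw [hcount]
      rw [Nat.cast_pow, Nat.cast_add, Nat.cast_mul, Nat.cast_sub (by omega)] at this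
      push_cast at this
      exact this
    have hkz : (T.card : ℤ) + 2 ≤ 2 * n := by exact_mod_cast hk
    have hnz : (3 : ℤ) ≤ n := by exact_mod_cast hn
    have hid : (2 * (n : ℤ) - 2 * (T.card : ℤ) + (lam : ℤ)) * (2 * n - 1) =
        (2 * n - T.card) * (2 * n - T.card - 1) := by
      have : (lam : ℤ) * (2 * n - 1) = (T.card : ℤ) ^ 2 - T.card := by linarith
      calc (2 * (n : ℤ) - 2 * (T.card : ℤ) + (lam : ℤ)) * (2 * n - 1)
          = (2 * (n : ℤ) - 2 * (T.card : ℤ)) * (2 * n - 1) + (lam : ℤ) * (2 * n - 1) := by ring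
        _ = (2 * (n : ℤ) - 2 * (T.card : ℤ)) * (2 * n - 1) + ((T.card : ℤ) ^ 2 - T.card) := by
            rw [this]
        _ = _ := by ring
    have hpos : 0 < (2 * (n : ℤ) - T.card) * (2 * n - T.card - 1) := by
      apply mul_pos <;> linarith
    rw [← hid] at hpos
    exact (pos_iff_pos_of_mul_pos hpos).mpr (by linarith)
  -- divisibility
  have hpA : p ∣ (rotPart T).card := card_dvd_of_per p hpn (rotPart T) hA
  have hpB : p ∣ (refPart T).card := by
    rw [← hAB] at hcard
    exact (Nat.dvd_add_right hpA).mp hcard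
  have hdvd : (p : ℤ) ∣ sgn (rotPart T) (refPart T) - sgn' (rotPart T) (refPart T) lam lam := by
    unfold sgn' sgn
    have hpA' : (p : ℤ) ∣ ((rotPart T).card : ℤ) := by exact_mod_cast hpA
    have hpB' : (p : ℤ) ∣ ((refPart T).card : ℤ) := by exact_mod_cast hpB
    have : ((rotPart T).card : ℤ) - (refPart T).card -
        ((lam : ℤ) - lam - (((rotPart T).card : ℤ) - (refPart T).card)) =
        2 * (rotPart T).card - 2 * (refPart T).card := by ring
    rw [this]
    exact dvd_sub (Dvd.dvd.mul_left hpA' 2) (Dvd.dvd.mul_left hpB' 2)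
  exact P4 D (by exact_mod_cast hlam) hmu' p hpn hp2 hdvd (fun x u hu _ => hA x u hu) hdisj

end Cfsg.Agent.Helper33.Sr
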