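import Cfsg.Agent.Helper61.Sr.Basic

/-!
# Helper33: pieces (DS2), (DS3) of helper61's S3572 farm: a reversible difference set in the
dihedral group, written inside `ZMod n`.
-/

set_option autoImplicit false

namespace Cfsg.Agent.Helper33.Sr

open Finset DihedralGroup Cfsg.Agent.Helper61.Sr Cfsg.Agent.Helper61.Dih

variable {n : ℕ} [NeZero n]

/-- (DS2) -/
theorem ds_rot (T : Finset (DihedralGroup n)) (hinv : ∀ d ∈ T, d⁻¹ ∈ T) (lam : ℕ)
    (h : IsDs T lam) (x : ZMod n) (hx : x ≠ 0) :
    ((rotPart T).filter (fun i => x - i ∈ rotPart T)).card +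
      ((refPart T).filter (fun j => j + x ∈ refPart T)).card = lam := by
  have hx1 : (r x : DihedralGroup n) ≠ 1 := by
    rw [one_def]
    intro h0
    injection h0 with h0
    exact hx h0
  have h1 := h (r x) hx1
  rw [coeff_ind_mul_ind, Cfsg.Agent.Helper68.Dih.card_filter_split] at h1
  have e1 : (rotPart T).filter (fun i => (r i : DihedralGroup n)⁻¹ * r x ∈ T) =
      (rotPart T).filter (fun i => x - i ∈ rotPart T) := by
    refine Finset.filter_congr fun i _ => ?_
    rw [inv_r, r_mul_r, mem_rotPart, neg_add_eq_sub]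
  have e2 : (refPart T).filter (fun j => (sr j : DihedralGroup n)⁻¹ * r x ∈ T) =
      (refPart T).filter (fun j => j + x ∈ refPart T) := by
    refine Finset.filter_congr fun j _ => ?_
    rw [inv_sr, sr_mul_r, mem_refPart]
  rw [e1, e2] at h1
  exact_mod_cast h1

/-- (DS3) -/
theorem ds_ref (T : Finset (DihedralGroup n)) (hinv : ∀ d ∈ T, d⁻¹ ∈ T) (lam : ℕ)
    (h : IsDs T lam) (x : ZMod n) :
    2 * ((rotPart T).filter (fun i => x + i ∈ refPart T)).card = lam := by
  have hnegA : ∀ i, i ∈ rotPart T → -i ∈ rotPart T := by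
    intro i hi
    rw [mem_rotPart] at hi ⊢
    have := hinv _ hi
    rwa [inv_r] at this
  have hx1 : (sr x : DihedralGroup n) ≠ 1 := by
    rw [one_def]
    intro h0
    cases h0
  have h1 := h (sr x) hx1
  rw [coeff_ind_mul_ind, Cfsg.Agent.Helper68.Dih.card_filter_split] at h1
  have e1 : (rotPart T).filter (fun i => (r i : DihedralGroup n)⁻¹ * sr x ∈ T) =
      (rotPart T).filter (fun i => x + i ∈ refPart T) := by
    refine Finset.filter_congr fun i _ => ?_
    rw [inv_r, r_mul_sr, mem_refPart, sub_neg_eq_add]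
  have e2 : (refPart T).filter (fun j => (sr j : DihedralGroup n)⁻¹ * sr x ∈ T) =
      (refPart T).filter (fun j => x - j ∈ rotPart T) := by
    refine Finset.filter_congr fun j _ => ?_
    rw [inv_sr, sr_mul_sr, mem_rotPart]
  have e3 : ((refPart T).filter (fun j => x - j ∈ rotPart T)).card =
      ((rotPart T).filter (fun i => x + i ∈ refPart T)).card := by
    refine Finset.card_bij' (fun j _ => j - x) (fun i _ => x + i) ?_ ?_ ?_ ?_
    · intro j hj
      rw [Finset.mem_filter] at hj ⊢
      refine ⟨?_, ?_⟩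
      · have := hnegA _ hj.2
        rwa [neg_sub] at this
      · rw [add_sub_cancel]
        exact hj.1
    · intro i hi
      rw [Finset.mem_filter] at hi ⊢
      refine ⟨hi.2, ?_⟩
      have := hnegA _ hi.1
      rwa [show x - (x + i) = -i by ring]
    · intro j _
      ring
    · intro i _
      ring
  rw [e1, e2, e3] at h1
  rw [two_mul]
  exact_mod_cast h1

end Cfsg.Agent.Helper33.Sr
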