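import Cfsg.Agent.Helper61.Sr.Basic

/-!
# Helper33: piece (DS5) of helper61's S3572 farm: a reversible difference set in the dihedral
group gives `DihData` with `lam = mu`.
-/

set_option autoImplicit false

namespace Cfsg.Agent.Helper33.Sr

open Finset DihedralGroup Cfsg.Agent.Helper61.Sr Cfsg.Agent.Helper61.Dih

variable {n : ℕ} [NeZero n]

/-- a reversible difference set avoiding `1` is a strongly regular Cayley set with `lam = mu` -/
theorem ds_isSrgSet (T : Finset (DihedralGroup n)) (hinv : ∀ d ∈ T, d⁻¹ ∈ T)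
    (h1 : (1 : DihedralGroup n) ∉ T) (lam : ℕ) (h : IsDs T lam) :
    IsSrgSet T T.card lam lam := by
  refine ⟨h1, hinv, rfl, ?_⟩
  intro d hd
  have h2 := h d hd
  rw [coeff_ind_mul_ind] at h2
  rw [ite_self]
  exact_mod_cast h2

/-- (DS5) -/
theorem ds_dihData (T : Finset (DihedralGroup n)) (hinv : ∀ d ∈ T, d⁻¹ ∈ T)
    (h1 : (1 : DihedralGroup n) ∉ T) (lam : ℕ) (h : IsDs T lam) :
    DihData n (rotPart T) (refPart T) (T.card : ℤ) lam lam :=
  dihData_of_isSrgSet (ds_isSrgSet T hinv h1 lam h)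

end Cfsg.Agent.Helper33.Sr
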